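import Mathlib.RingTheory.Ideal.KrullsHeightTheorem
import Mathlib.RingTheory.MvPolynomial.Basic
import Mathlib.RingTheory.Spectrum.Prime.Noetherian
import Mathlib.RingTheory.Spectrum.Prime.Topology
import Mathlib.RingTheory.Polynomial.Basic

/-!
# Primes of coefficientwise polynomials and chains below a prime
-/

set_option autoImplicit false
set_option linter.style.haveILetI false

universe u

open MvPolynomial

namespace GrothLib.UnivOpenAt6

variable {A : Type u} [CommRing A] {d : ℕ}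

/-- The ideal `P[X]` of polynomials with coefficients in `P`. -/
noncomputable def polyIdeal (d : ℕ) (P : Ideal A) : Ideal (MvPolynomial (Fin d) A) :=
  RingHom.ker (MvPolynomial.map (σ := Fin d) (Ideal.Quotient.mk P))

theorem mem_polyIdeal {P : Ideal A} {F : MvPolynomial (Fin d) A} :
    F ∈ polyIdeal d P ↔ ∀ m, F.coeff m ∈ P := by
  rw [polyIdeal, RingHom.mem_ker, MvPolynomial.ext_iff]
  exact forall_congr' fun m => by rw [coeff_map, coeff_zero, Ideal.Quotient.eq_zero_iff_mem]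

instance isPrime_polyIdeal (P : Ideal A) [P.IsPrime] : (polyIdeal d P).IsPrime := RingHom.ker_isPrime _

theorem C_mem_polyIdeal {P : Ideal A} {a : A} : (C a : MvPolynomial (Fin d) A) ∈ polyIdeal d P ↔ a ∈ P := by
  rw [polyIdeal, RingHom.mem_ker, map_C, ← Ideal.Quotient.eq_zero_iff_mem]
  exact (map_eq_zero_iff (C : A ⧸ P →+* MvPolynomial (Fin d) (A ⧸ P)) (C_injective _ _))

theorem polyIdeal_mono {P Q : Ideal A} (h : P ≤ Q) : polyIdeal d P ≤ polyIdeal d Q := fun _ hF =>
  mem_polyIdeal.2 fun m => h (mem_polyIdeal.1 hF m)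

/-- A prime minimal over `P + (a)` has no prime strictly between it and `P`. -/
theorem not_between {R : Type u} [CommRing R] [IsNoetherianRing R] {P Q p : Ideal R} [P.IsPrime] [Q.IsPrime]
    (a : R) (hp : p ∈ (P ⊔ Ideal.span {a}).minimalPrimes) (h₁ : P < Q) (h₂ : Q < p) : False := by
  haveI := hp.isPrime
  let π := Ideal.Quotient.mk P
  haveI : (Q.map π).IsPrime :=
    Ideal.map_isPrime_of_surjective Ideal.Quotient.mk_surjective (by rw [Ideal.mk_ker]; exact h₁.le)
  have hPp : P ≤ p := h₁.le.trans h₂.le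
  haveI : (p.map π).IsPrime :=
    Ideal.map_isPrime_of_surjective Ideal.Quotient.mk_surjective (by rw [Ideal.mk_ker]; exact hPp)
  have hback : ∀ I : Ideal R, P ≤ I → (I.map π).comap π = I := fun I hI => by
    rw [Ideal.comap_map_of_surjective _ Ideal.Quotient.mk_surjective, ← RingHom.ker_eq_comap_bot, Ideal.mk_ker,
      sup_eq_left.2 hI]
  have hmin : p.map π ∈ (Ideal.span {π a}).minimalPrimes := by
    refine ⟨⟨inferInstance, ?_⟩, fun I hI hIp => ?_⟩
    · rw [Ideal.span_singleton_le_iff_mem]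
      exact Ideal.mem_map_of_mem π (hp.1.2 (Ideal.mem_sup_right (Ideal.mem_span_singleton_self a)))
    · haveI := hI.1
      refine Ideal.map_le_iff_le_comap.2 (hp.2 ⟨Ideal.comap_isPrime π I, sup_le ?_ ?_⟩ ?_)
      · exact fun x hx => by
          show π x ∈ I
          rw [Ideal.Quotient.eq_zero_iff_mem.2 hx]; exact I.zero_mem
      · rw [Ideal.span_singleton_le_iff_mem]
        exact hI.2 (Ideal.mem_span_singleton_self _)
      · exact (Ideal.comap_mono hIp).trans (hback p hPp).le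
  have hle := Ideal.height_le_one_of_isPrincipal_of_mem_minimalPrimes (Ideal.span {π a}) (p.map π) hmin
  have hQ : Q.map π < p.map π := lt_of_le_of_ne (Ideal.map_mono h₂.le) fun he => h₂.ne (by
    rw [← hback Q h₁.le, ← hback p hPp, he])
  have hb : (⊥ : Ideal (R ⧸ P)) < Q.map π := bot_lt_iff_ne_bot.2 fun he => h₁.ne (by
    rw [← hback Q h₁.le, he, ← RingHom.ker_eq_comap_bot, Ideal.mk_ker])
  have h1 := Ideal.height_add_one_le_of_lt_of_isPrime hb
  have h2 := (Ideal.height_add_one_le_of_lt_of_isPrime hQ).trans hle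
  rw [Ideal.height_bot, zero_add] at h1
  have h3 : ((1 + 1 : ℕ) : ℕ∞) ≤ ((1 : ℕ) : ℕ∞) := by
    push_cast
    exact (add_le_add h1 le_rfl).trans h2
  exact absurd (Nat.cast_le.1 h3) (by decide)

/-- Below a prime containing `a`, a prime maximal among those avoiding `a` has coheight one. -/
theorem exists_coheight_one {R : Type u} [CommRing R] [IsNoetherianRing R] (p P₀ : Ideal R) [p.IsPrime] [P₀.IsPrime]
    (hP₀ : P₀ ≤ p) {a : R} (ha : a ∈ p) (ha₀ : a ∉ P₀) :
    ∃ (P : Ideal R) (_ : P.IsPrime), P₀ ≤ P ∧ P ≤ p ∧ a ∉ P ∧ ∀ Q : Ideal R, Q.IsPrime → P < Q → Q ≤ p → Q = p := by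
  classical
  obtain ⟨(P : Ideal R), ⟨hP, h0, hPp, haP⟩, hmax⟩ := set_has_maximal_iff_noetherian.2 (inferInstance : IsNoetherian R R)
    {P : Ideal R | P.IsPrime ∧ P₀ ≤ P ∧ P ≤ p ∧ a ∉ P} ⟨P₀, inferInstance, le_rfl, hP₀, ha₀⟩
  refine ⟨P, hP, h0, hPp, haP, fun Q hQ hPQ hQp => ?_⟩
  by_contra hne
  have hQlt : Q < p := lt_of_le_of_ne hQp hne
  have hain : ∀ Q' : Ideal R, Q'.IsPrime → P < Q' → Q' ≤ p → a ∈ Q' := fun Q' hQ' h1 h2 => by
    by_contra h
    exact hmax Q' ⟨hQ', h0.trans h1.le, h2, h⟩ h1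
  let S := Ideal.minimalPrimes (P ⊔ Ideal.span {a})
  have hnotmin : p ∉ S := fun hp => not_between a hp hPQ hQlt
  have hPS : P ⊔ Ideal.span {a} ≤ p := sup_le hPp ((Ideal.span_singleton_le_iff_mem _).2 ha)
  have hcover : ¬ ((p : Set R) ⊆ ⋃ M ∈ (Ideal.finite_minimalPrimes_of_isNoetherianRing R (P ⊔ Ideal.span {a})).toFinset,
      (M : Set R)) := by
    intro hsub
    obtain ⟨M, hM, hle⟩ := (Ideal.subset_union_prime (f := id) p p (fun M hM _ _ =>
      ((Set.Finite.mem_toFinset _).1 hM).isPrime)).1 hsub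
    have hM' : M ∈ S := (Set.Finite.mem_toFinset _).1 hM
    exact hnotmin (le_antisymm (hM'.2 ⟨inferInstance, hPS⟩ hle) hle ▸ hM')
  obtain ⟨c, hcp, hc⟩ := Set.not_subset.1 hcover
  simp only [Set.mem_iUnion, Set.Finite.mem_toFinset, not_exists] at hc
  have hcP : c ∉ P := by
    intro hcP
    obtain ⟨M, hM, -⟩ := Ideal.exists_minimalPrimes_le hPS
    exact hc M hM (hM.1.2 (Ideal.mem_sup_left hcP))
  obtain ⟨Q₁, hQ₁, hQ₁p⟩ := Ideal.exists_minimalPrimes_le (I := P ⊔ Ideal.span {c}) (J := p)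
    (sup_le hPp ((Ideal.span_singleton_le_iff_mem _).2 hcp))
  haveI := hQ₁.isPrime
  have hPQ₁ : P < Q₁ := lt_of_le_of_ne (le_sup_left.trans hQ₁.1.2) fun he =>
    hcP (he ▸ hQ₁.1.2 (Ideal.mem_sup_right (Ideal.mem_span_singleton_self c)))
  obtain ⟨M, hM, hMQ⟩ := Ideal.exists_minimalPrimes_le (I := P ⊔ Ideal.span {a}) (J := Q₁)
    (sup_le hPQ₁.le ((Ideal.span_singleton_le_iff_mem _).2 (hain Q₁ inferInstance hPQ₁ hQ₁p)))
  haveI := hM.isPrime
  have hPM : P < M := lt_of_le_of_ne (le_sup_left.trans hM.1.2) fun he =>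
    haP (he ▸ hM.1.2 (Ideal.mem_sup_right (Ideal.mem_span_singleton_self a)))
  rcases eq_or_lt_of_le hMQ with he | hlt
  · exact hc M hM (he ▸ hQ₁.1.2 (Ideal.mem_sup_right (Ideal.mem_span_singleton_self c)))
  · exact not_between c hQ₁ hPM hlt

/-- Between `P[X]` and `p[X]` there is no prime meeting the base in `P`, for adjacent `P < p`. -/
theorem eq_polyIdeal_of_le [IsNoetherianRing A] {P p : Ideal A} [P.IsPrime] [p.IsPrime] (hlt : P < p)
    (hadj : ∀ Q : Ideal A, Q.IsPrime → P < Q → Q ≤ p → Q = p)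
    (J : Ideal (MvPolynomial (Fin d) A)) [J.IsPrime] (hJp : J ≤ polyIdeal d p) (hJA : J.comap C = P) :
    J = polyIdeal d P := by
  classical
  have hPJ : polyIdeal d P ≤ J := fun F hF => by
    rw [← F.support_sum_monomial_coeff]
    refine J.sum_mem fun m _ => ?_
    rw [← mul_one (F.coeff m), ← C_mul_monomial]
    exact J.mul_mem_right _ (hJA.ge (mem_polyIdeal.1 hF m))
  by_contra hne
  obtain ⟨a, hap, haP⟩ := SetLike.exists_of_lt hlt
  refine not_between (C a) ?_ (lt_of_le_of_ne hPJ (Ne.symm hne)) (lt_of_le_of_ne hJp fun he => ?_)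
  · refine ⟨⟨inferInstance, sup_le (polyIdeal_mono hlt.le)
      ((Ideal.span_singleton_le_iff_mem _).2 (C_mem_polyIdeal.2 hap))⟩, fun L hL hLp => ?_⟩
    haveI := hL.1
    have hL₁ : L.comap C = p := by
      refine hadj _ (Ideal.comap_isPrime _ _) (lt_of_le_of_ne ?_ ?_) fun x hx => C_mem_polyIdeal.1 (hLp hx)
      · exact fun x hx => hL.2 (Ideal.mem_sup_left (C_mem_polyIdeal.2 hx))
      · exact fun he => haP (he.ge (hL.2 (Ideal.mem_sup_right (Ideal.mem_span_singleton_self _))))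
    intro F hF
    rw [← F.support_sum_monomial_coeff]
    refine L.sum_mem fun m _ => ?_
    rw [← mul_one (F.coeff m), ← C_mul_monomial]
    exact L.mul_mem_right _ (hL₁.ge (mem_polyIdeal.1 hF m))
  · rw [he] at hJA
    exact haP (hJA.le (C_mem_polyIdeal.2 hap))

/-- Spreading `P ↦ P[X]` is continuous. -/
theorem continuous_polyPrime :
    Continuous fun P : PrimeSpectrum A => (⟨polyIdeal d P.asIdeal, inferInstance⟩ : PrimeSpectrum (MvPolynomial (Fin d) A)) := by
  refine PrimeSpectrum.isTopologicalBasis_basic_opens.continuous_iff.2 ?_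
  rintro _ ⟨F, rfl⟩
  have : (fun P : PrimeSpectrum A => (⟨polyIdeal d P.asIdeal, inferInstance⟩ : PrimeSpectrum (MvPolynomial (Fin d) A))) ⁻¹'
      (PrimeSpectrum.basicOpen F : Set (PrimeSpectrum (MvPolynomial (Fin d) A))) =
      ⋃ m, (PrimeSpectrum.basicOpen (F.coeff m) : Set (PrimeSpectrum A)) := by
    ext P
    simp [mem_polyIdeal]
  rw [this]
  exact isOpen_iUnion fun m => (PrimeSpectrum.basicOpen (F.coeff m)).2

end GrothLib.UnivOpenAt6
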