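import Groth.Agent.Lib.UnivOpenAt6.Cut.Height
import Mathlib.RingTheory.AlgebraicIndependent.TranscendenceBasis
import Mathlib.RingTheory.ZariskisMainTheorem
import Mathlib.RingTheory.LocalRing.ResidueField.Fiber

/-!
# An independent quasi-finite cut at a maximal point of a fibre
-/

set_option autoImplicit false
set_option linter.style.haveILetI false

universe u

open MvPolynomial

namespace GrothLib.UnivOpenAt6

theorem exists_cut_of_maximal {A B : Type u} [CommRing A] [CommRing B] [Algebra A B] [Algebra.FiniteType A B]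
    (q : PrimeSpectrum B)
    (hmax : ∀ z : PrimeSpectrum B, z.asIdeal ≤ q.asIdeal →
      z.asIdeal.comap (algebraMap A B) = q.asIdeal.comap (algebraMap A B) → z = q) :
    ∃ (d : ℕ) (b : Fin d → B),
      q.asIdeal.comap (aeval b : MvPolynomial (Fin d) A →ₐ[A] B).toRingHom =
        polyIdeal d (q.asIdeal.comap (algebraMap A B)) ∧
      (letI : Algebra (MvPolynomial (Fin d) A) B := (aeval b).toRingHom.toAlgebra
      Algebra.QuasiFiniteAt (MvPolynomial (Fin d) A) q.asIdeal) := by
  classical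
  let p := q.asIdeal.under A
  haveI : q.asIdeal.LiesOver p := ⟨rfl⟩
  obtain ⟨S, hS⟩ := (‹Algebra.FiniteType A B›).out
  let π := Ideal.Quotient.mkₐ A q.asIdeal
  let s : Set (B ⧸ q.asIdeal) := π '' ↑S
  have hs : Algebra.adjoin (A ⧸ p) s = ⊤ := by
    refine top_le_iff.1 fun x _ => ?_
    obtain ⟨x, rfl⟩ := Ideal.Quotient.mk_surjective x
    have h : (⊤ : Subalgebra A B).map π ≤ (Algebra.adjoin (A ⧸ p) s).restrictScalars A := by
      rw [← hS, AlgHom.map_adjoin, Algebra.adjoin_le_iff]
      exact Algebra.subset_adjoin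
    exact h ⟨x, trivial, rfl⟩
  haveI : Algebra.IsAlgebraic (Algebra.adjoin (A ⧸ p) s) (B ⧸ q.asIdeal) := ⟨fun x =>
    isAlgebraic_algebraMap (⟨x, hs ▸ trivial⟩ : Algebra.adjoin (A ⧸ p) s)⟩
  haveI : FaithfulSMul (A ⧸ p) (B ⧸ q.asIdeal) := inferInstance
  obtain ⟨t, hts, ht⟩ := exists_isTranscendenceBasis_subset (R := A ⧸ p) s
  haveI : Finite t := ((S.finite_toSet.image π).subset hts).to_subtype
  obtain ⟨d, ⟨e⟩⟩ := Finite.exists_equiv_fin t
  choose b hb using fun i => Ideal.Quotient.mk_surjective ((e.symm i : B ⧸ q.asIdeal))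
  have hy : IsTranscendenceBasis (A ⧸ p) fun i => ((e.symm i : B ⧸ q.asIdeal)) := ht.comp_equiv e.symm
  have hmk : ∀ F : MvPolynomial (Fin d) A, Ideal.Quotient.mk q.asIdeal (aeval b F) =
      aeval (fun i => ((e.symm i : B ⧸ q.asIdeal))) (MvPolynomial.map (Ideal.Quotient.mk p) F) := fun F => by
    rw [show (Ideal.Quotient.mk p : A →+* A ⧸ p) = algebraMap A (A ⧸ p) from rfl, aeval_map_algebraMap,
      ← Ideal.Quotient.mkₐ_eq_mk A, ← AlgHom.comp_apply, comp_aeval]
    exact congrArg (fun v : Fin d → B ⧸ q.asIdeal => aeval v F) (funext hb)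
  have hq : q.asIdeal.comap (aeval b : MvPolynomial (Fin d) A →ₐ[A] B).toRingHom = polyIdeal d p := by
    ext F
    show aeval b F ∈ q.asIdeal ↔ MvPolynomial.map (Ideal.Quotient.mk p) F = 0
    rw [← Ideal.Quotient.eq_zero_iff_mem, hmk]
    exact map_eq_zero_iff _ hy.1
  refine ⟨d, b, hq, ?_⟩
  letI : Algebra (MvPolynomial (Fin d) A) B := (aeval b).toRingHom.toAlgebra
  haveI : IsScalarTower A (MvPolynomial (Fin d) A) B := IsScalarTower.of_algebraMap_eq fun a => ((aeval b).commutes a).symm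
  haveI : Algebra.FiniteType (MvPolynomial (Fin d) A) B :=
    Algebra.FiniteType.of_restrictScalars_finiteType A (MvPolynomial (Fin d) A) B
  have hmin : ∀ z : PrimeSpectrum B, z.asIdeal ≤ q.asIdeal →
      z.asIdeal.under (MvPolynomial (Fin d) A) = q.asIdeal.under (MvPolynomial (Fin d) A) → z = q := fun z hz he =>
    hmax z hz <| by
      show z.asIdeal.under A = q.asIdeal.under A
      rw [← Ideal.under_under (B := MvPolynomial (Fin d) A) z.asIdeal, he, Ideal.under_under]
  have hclosed : ∀ z : PrimeSpectrum B, q.asIdeal ≤ z.asIdeal →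
      z.asIdeal.under (MvPolynomial (Fin d) A) = q.asIdeal.under (MvPolynomial (Fin d) A) → z = q := by
    intro z hz he
    refine PrimeSpectrum.ext (le_antisymm (fun x hx => ?_) hz)
    by_contra hxq
    let R' := Algebra.adjoin (A ⧸ p) (Set.range fun i => ((e.symm i : B ⧸ q.asIdeal)))
    haveI : Algebra.IsAlgebraic R' (B ⧸ q.asIdeal) := hy.isAlgebraic
    have hne := Ideal.comap_ne_bot_of_algebraic_mem (R := R') (I := z.asIdeal.map (Ideal.Quotient.mk q.asIdeal))
      (mt Ideal.Quotient.eq_zero_iff_mem.1 hxq) (Ideal.mem_map_of_mem _ hx)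
      (Algebra.IsAlgebraic.isAlgebraic (R := R') (Ideal.Quotient.mk q.asIdeal x))
    obtain ⟨⟨v, hv⟩, hvz, hv0⟩ := Submodule.exists_mem_ne_zero_of_ne_bot hne
    obtain ⟨G, rfl⟩ := (AlgHom.mem_range _).1 ((Algebra.adjoin_range_eq_range_aeval (R := A ⧸ p) _).le hv)
    obtain ⟨F, rfl⟩ := MvPolynomial.map_surjective _ Ideal.Quotient.mk_surjective G
    have hF : F ∈ z.asIdeal.under (MvPolynomial (Fin d) A) := by
      show aeval b F ∈ z.asIdeal
      have h1 : Ideal.Quotient.mk q.asIdeal (aeval b F) ∈ z.asIdeal.map (Ideal.Quotient.mk q.asIdeal) := by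
        rw [hmk]
        exact hvz
      obtain ⟨y, hy', hye⟩ := (Ideal.mem_map_iff_of_surjective _ Ideal.Quotient.mk_surjective).1 h1
      exact (Submodule.sub_mem_iff_left _ (hz (Ideal.Quotient.eq.1 hye.symm))).1 (by simpa using hy') 
    rw [he] at hF
    refine hv0 (Subtype.ext ?_)
    show aeval _ (MvPolynomial.map (Ideal.Quotient.mk p) F) = 0
    rw [← hmk, Ideal.Quotient.eq_zero_iff_mem]
    exact hF
  let J : PrimeSpectrum (MvPolynomial (Fin d) A) := PrimeSpectrum.comap (algebraMap _ B) q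
  let ε := PrimeSpectrum.preimageHomeomorphFiber (MvPolynomial (Fin d) A) B J
  refine Algebra.QuasiFiniteAt.of_isOpen_singleton_fiber q ?_
  rw [← ε.isOpen_image, Set.image_singleton]
  haveI : IsNoetherianRing (J.asIdeal.Fiber B) := Algebra.FiniteType.isNoetherianRing J.asIdeal.ResidueField _
  haveI : IsJacobsonRing (J.asIdeal.Fiber B) := isJacobsonRing_of_finiteType (A := J.asIdeal.ResidueField)
  refine ((PrimeSpectrum.isOpen_singleton_tfae_of_isNoetherian_of_isJacobsonRing _).out 0 2 rfl rfl).mpr ⟨?_, ?_⟩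
  · rw [← closure_subset_iff_isClosed]
    intro c hc
    obtain ⟨z, rfl⟩ := ε.surjective c
    have hs : q ⤳ z.1 :=
      (ε.isInducing.specializes_iff.1 (specializes_iff_mem_closure.2 hc)).map continuous_subtype_val
    exact congrArg ε (Subtype.ext (hclosed z.1 ((PrimeSpectrum.le_iff_specializes _ _).2 hs)
      (congrArg PrimeSpectrum.asIdeal z.2)))
  · intro a c hca ha
    obtain ⟨z, rfl⟩ := ε.surjective c
    rw [Set.mem_singleton_iff] at ha
    subst ha
    have hs : z.1 ⤳ q := (ε.isInducing.specializes_iff.1 hca).map continuous_subtype_val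
    exact congrArg ε (Subtype.ext (hmin z.1 ((PrimeSpectrum.le_iff_specializes _ _).2 hs)
      (congrArg PrimeSpectrum.asIdeal z.2)))

end GrothLib.UnivOpenAt6
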