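import Groth.Agent.Lib.UnivOpenAt6.Cut.Height
import Groth.Prelude.Def_EGA43
import Groth.Agent.Lib.NoethTop.Spectral
import Groth.Agent.Lib.Constr.Basic
import Mathlib.RingTheory.Spectrum.Prime.Chevalley

/-!
# Openness at a point gives a component independent of the cut
-/

set_option autoImplicit false
set_option linter.style.haveILetI false

universe u

open MvPolynomial Topology TopologicalSpace

namespace GrothLib.UnivOpenAt6

variable {A B : Type u} [CommRing A] [CommRing B] [Algebra A B] {d : ℕ} (b : Fin d → B)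

/-- A finite family of primes, one of which avoids any given element outside `q`, has a member inside `q`. -/
theorem exists_le_of_forall_notMem {S : Set (Ideal B)} (hS : S.Finite) (hprime : ∀ M ∈ S, M.IsPrime)
    (q : Ideal B) [q.IsPrime] (h : ∀ s ∉ q, ∃ M ∈ S, s ∉ M) : ∃ M ∈ S, M ≤ q := by
  classical
  by_contra! hcon
  choose! s hs hsq using fun M hM => Set.not_subset.1 (hcon M hM)
  obtain ⟨M, hM, hnot⟩ := h (∏ M ∈ hS.toFinset, s M) fun hmem => by
    obtain ⟨M, hM, hMs⟩ := (Ideal.IsPrime.prod_mem_iff (p := q)).1 hmem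
    exact hsq M (hS.mem_toFinset.1 hM) hMs
  haveI := hprime M hM
  exact hnot ((Ideal.IsPrime.prod_mem_iff (p := M)).2 ⟨M, hS.mem_toFinset.2 hM, hs M hM⟩)

/-- The contraction of an `A[X]`-prime to `A` agrees with that along the structure map. -/
theorem comap_aeval_comap_C (z : Ideal B) :
    (z.comap (aeval b : MvPolynomial (Fin d) A →ₐ[A] B).toRingHom).comap C = z.comap (algebraMap A B) := by
  ext a
  show aeval b (C a) ∈ z ↔ _
  rw [aeval_C]
  rfl

/-- Openness at `q` gives, over an adjacent generization of the base point, a prime below `q` with the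
cut algebraically independent. -/
theorem exists_indep_adjacent [IsNoetherianRing A] [Algebra.FiniteType A B] (q : PrimeSpectrum B)
    (hopen : EGA43.IsOpenAt (PrimeSpectrum.comap (algebraMap A B)) q)
    (hq : q.asIdeal.comap (aeval b : MvPolynomial (Fin d) A →ₐ[A] B).toRingHom =
      polyIdeal d (q.asIdeal.comap (algebraMap A B)))
    (P : Ideal A) [P.IsPrime] (hlt : P < q.asIdeal.comap (algebraMap A B))
    (hadj : ∀ Q : Ideal A, Q.IsPrime → P < Q → Q ≤ q.asIdeal.comap (algebraMap A B) →
      Q = q.asIdeal.comap (algebraMap A B)) :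
    ∃ z : PrimeSpectrum B, z.asIdeal ≤ q.asIdeal ∧
      z.asIdeal.comap (aeval b : MvPolynomial (Fin d) A →ₐ[A] B).toRingHom = polyIdeal d P := by
  haveI : IsNoetherianRing B := Algebra.FiniteType.isNoetherianRing A B
  let S : Set (Ideal B) := {M | M ∈ (P.map (algebraMap A B)).minimalPrimes ∧ M.comap (algebraMap A B) = P}
  have hfin : S.Finite := (Ideal.finite_minimalPrimes_of_isNoetherianRing B _).subset fun M hM => hM.1
  obtain ⟨M, hM, hMq⟩ := exists_le_of_forall_notMem hfin (fun M hM => hM.1.isPrime) q.asIdeal fun s hs => by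
    have hm := hopen _ ((PrimeSpectrum.basicOpen s).2.mem_nhds hs)
    obtain ⟨w, hw, hwP⟩ := mem_of_mem_nhds ((PrimeSpectrum.le_iff_specializes ⟨P, inferInstance⟩
      (PrimeSpectrum.comap (algebraMap A B) q)).1 hlt.le hm)
    have hwP' : w.asIdeal.comap (algebraMap A B) = P := congrArg PrimeSpectrum.asIdeal hwP
    obtain ⟨M, hM, hMw⟩ := Ideal.exists_minimalPrimes_le (Ideal.map_le_iff_le_comap.2 hwP'.ge)
    haveI := hM.isPrime
    exact ⟨M, ⟨hM, le_antisymm ((Ideal.comap_mono hMw).trans hwP'.le)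
      (Ideal.map_le_iff_le_comap.1 hM.1.2)⟩, fun h => hw (hMw h)⟩
  haveI := hM.1.isPrime
  refine ⟨⟨M, inferInstance⟩, hMq, ?_⟩
  haveI : (M.comap (aeval b : MvPolynomial (Fin d) A →ₐ[A] B).toRingHom).IsPrime := Ideal.comap_isPrime _ _
  exact eq_polyIdeal_of_le hlt hadj _ ((Ideal.comap_mono hMq).trans hq.le)
    ((comap_aeval_comap_C b M).trans hM.2)

/-- Openness at `q` gives, in every neighbourhood, points over the generic point with the cut
algebraically independent. -/
theorem exists_indep_mem [IsDomain A] [IsNoetherianRing A] [Algebra.FiniteType A B] (q : PrimeSpectrum B)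
    (hopen : EGA43.IsOpenAt (PrimeSpectrum.comap (algebraMap A B)) q)
    (hq : q.asIdeal.comap (aeval b : MvPolynomial (Fin d) A →ₐ[A] B).toRingHom =
      polyIdeal d (q.asIdeal.comap (algebraMap A B)))
    {s : B} (hs : s ∉ q.asIdeal) :
    ∃ w : PrimeSpectrum B, s ∉ w.asIdeal ∧
      w.asIdeal.comap (aeval b : MvPolynomial (Fin d) A →ₐ[A] B).toRingHom = polyIdeal d ⊥ := by
  let T : Set (PrimeSpectrum (MvPolynomial (Fin d) A)) :=
    PrimeSpectrum.comap (aeval b : MvPolynomial (Fin d) A →ₐ[A] B).toRingHom '' (PrimeSpectrum.basicOpen s : Set (PrimeSpectrum B))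
  let σ : PrimeSpectrum A → PrimeSpectrum (MvPolynomial (Fin d) A) :=
    fun P => ⟨polyIdeal d P.asIdeal, inferInstance⟩
  have hT : IsConstructible T := by
    refine PrimeSpectrum.isConstructible_comap_image ?_ PrimeSpectrum.isConstructible_basicOpen
    letI : Algebra (MvPolynomial (Fin d) A) B := (aeval b).toRingHom.toAlgebra
    haveI : IsScalarTower A (MvPolynomial (Fin d) A) B :=
      IsScalarTower.of_algebraMap_eq fun a => ((aeval b).commutes a).symm
    haveI : Algebra.FiniteType (MvPolynomial (Fin d) A) B :=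
      Algebra.FiniteType.of_restrictScalars_finiteType A (MvPolynomial (Fin d) A) B
    exact RingHom.FinitePresentation.of_finiteType.1 (RingHom.finiteType_algebraMap.2 ‹_›)
  let G := σ ⁻¹' T
  have hG : IsConstructible G := hT.preimage continuous_polyPrime
    fun U hU _ _ _ hW' => NoetherianSpace.isCompact _
  by_contra hcon
  have hbot : (⟨⊥, Ideal.isPrime_bot⟩ : PrimeSpectrum A) ∉ closure G := fun h => by
    obtain ⟨e, he, hsp⟩ := SpecSp.exists_specializes_of_mem_closure
      (Constr.isClosed_constructibleTopology_of_isConstructible hG) h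
    have : e = ⟨⊥, Ideal.isPrime_bot⟩ := PrimeSpectrum.ext
      (le_bot_iff.1 ((PrimeSpectrum.le_iff_specializes e ⟨⊥, Ideal.isPrime_bot⟩).2 hsp))
    obtain ⟨w, hw, hwe⟩ := this ▸ he
    exact hcon ⟨w, hw, congrArg PrimeSpectrum.asIdeal hwe⟩
  obtain ⟨_, ⟨a, rfl⟩, ha, haG⟩ := PrimeSpectrum.isTopologicalBasis_basic_opens.exists_subset_of_mem_open
    hbot isClosed_closure.isOpen_compl
  have hqG : PrimeSpectrum.comap (algebraMap A B) q ∈ G := ⟨q, hs, PrimeSpectrum.ext hq⟩
  have hap : a ∈ q.asIdeal.comap (algebraMap A B) := by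
    by_contra h
    exact haG h (subset_closure hqG)
  obtain ⟨P, hP, -, hPp, haP, hadj⟩ := exists_coheight_one (q.asIdeal.comap (algebraMap A B)) ⊥ bot_le hap ha
  obtain ⟨z, hzq, hz⟩ := exists_indep_adjacent b q hopen hq P (lt_of_le_of_ne hPp fun he => haP (he ▸ hap)) hadj
  let Pp : PrimeSpectrum A := ⟨P, hP⟩
  have hmem : Pp ∈ G := by
    show σ Pp ∈ T
    exact ⟨z, fun h : s ∈ z.asIdeal => hs (hzq h), PrimeSpectrum.ext hz⟩
  have hPa : Pp ∈ (PrimeSpectrum.basicOpen a : Set (PrimeSpectrum A)) := haP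
  exact haG hPa (subset_closure hmem)

/-- Openness at `q` gives a minimal prime below `q` with the cut algebraically independent. -/
theorem exists_indep_minimalPrime [IsDomain A] [IsNoetherianRing A] [Algebra.FiniteType A B] (q : PrimeSpectrum B)
    (hopen : EGA43.IsOpenAt (PrimeSpectrum.comap (algebraMap A B)) q)
    (hq : q.asIdeal.comap (aeval b : MvPolynomial (Fin d) A →ₐ[A] B).toRingHom =
      polyIdeal d (q.asIdeal.comap (algebraMap A B))) :
    ∃ M ∈ minimalPrimes B, M ≤ q.asIdeal ∧
      M.comap (aeval b : MvPolynomial (Fin d) A →ₐ[A] B).toRingHom = polyIdeal d (⊥ : Ideal A) := by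
  haveI : IsNoetherianRing B := Algebra.FiniteType.isNoetherianRing A B
  have hbot : polyIdeal d (⊥ : Ideal A) = ⊥ := by
    ext F
    simp [mem_polyIdeal, MvPolynomial.ext_iff]
  obtain ⟨M, ⟨hM, hMb⟩, hle⟩ := exists_le_of_forall_notMem
    (S := {M | M ∈ minimalPrimes B ∧ M.comap (aeval b : MvPolynomial (Fin d) A →ₐ[A] B).toRingHom = polyIdeal d ⊥})
    ((minimalPrimes.finite_of_isNoetherianRing B).subset fun M hM => hM.1) (fun M hM => hM.1.isPrime) q.asIdeal
    fun s hs => by
      obtain ⟨w, hw, hwb⟩ := exists_indep_mem b q hopen hq hs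
      obtain ⟨M, hM, hMw⟩ := Ideal.exists_minimalPrimes_le (bot_le : (⊥ : Ideal B) ≤ w.asIdeal)
      refine ⟨M, ⟨hM, le_antisymm ((Ideal.comap_mono hMw).trans hwb.le) ?_⟩, fun h => hw (hMw h)⟩
      rw [hbot]; exact bot_le
  exact ⟨M, hM, hle, hMb⟩

end GrothLib.UnivOpenAt6
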