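import Groth.Agent.Lib.UnivOpenAt6.Alg
import Groth.Agent.Lib.UnivOpenAt6.Cut.Open
import Groth.Agent.Lib.Chev28.Lift
import Groth.Prelude.Def_CAlg2
import Mathlib.RingTheory.Polynomial.IsIntegral

/-!
# Lifting generizations from openness after finite base changes
-/

set_option autoImplicit false
set_option linter.style.haveILetI false

universe u

open MvPolynomial TensorProduct TopologicalSpace

noncomputable section

namespace GrothLib.UnivOpenAt6

/-- Openness at every point over `q` after base change to finite algebras. -/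
def FinOpen (A B : Type u) [CommRing A] [CommRing B] [Algebra A B] (q : PrimeSpectrum B) : Prop :=
  ∀ (C : Type u) [CommRing C] [IsDomain C] [Algebra A C] [Module.Finite A C] (w : PrimeSpectrum (C ⊗[A] B)),
    PrimeSpectrum.comap (Algebra.TensorProduct.includeRight : B →ₐ[A] C ⊗[A] B).toRingHom w = q →
    EGA43.IsOpenAt (PrimeSpectrum.comap (algebraMap C (C ⊗[A] B))) w

theorem isUnibranch_localization {N : Type u} [CommRing N] [IsDomain N] [IsIntegrallyClosed N] (p : Ideal N) [p.IsPrime] :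
    CAlg2.IsUnibranch (Localization.AtPrime p) := by
  let R := Localization.AtPrime p
  haveI : IsDomain R := IsLocalization.isDomain_localization p.primeCompl_le_nonZeroDivisors
  haveI : IsIntegrallyClosed R := isIntegrallyClosed_of_isLocalization R p.primeCompl p.primeCompl_le_nonZeroDivisors
  let e : R ≃+* CAlg2.red R := RingEquiv.ofBijective (Ideal.Quotient.mk (nilradical R))
    ⟨by rw [RingHom.injective_iff_ker_eq_bot, Ideal.mk_ker]; exact nilradical_eq_zero R,
      Ideal.Quotient.mk_surjective⟩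
  haveI : IsDomain (CAlg2.red R) := e.symm.toMulEquiv.isDomain R
  haveI : IsIntegrallyClosed (CAlg2.red R) := IsIntegrallyClosed.of_equiv e
  haveI : IsLocalRing (CAlg2.red R) := IsLocalRing.of_surjective' e.toRingHom e.surjective
  exact ⟨inferInstance, IsLocalRing.of_surjective' (algebraMap (CAlg2.red R)
    (integralClosure (CAlg2.red R) (FractionRing (CAlg2.red R)))) fun x => by
      obtain ⟨r, hr⟩ := IsIntegrallyClosed.algebraMap_eq_of_integral x.2
      exact ⟨r, Subtype.ext hr⟩⟩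

/-- A point of `R ⊗ B` over compatible points of `R' ⊗ B` and `R`. -/
theorem exists_point_over {A B R R' : Type u} [CommRing A] [CommRing B] [Algebra A B] [CommRing R] [Algebra A R]
    [CommRing R'] [Algebra A R'] (ψ : R' →ₐ[A] R) (z : PrimeSpectrum (R' ⊗[A] B)) (P : PrimeSpectrum R)
    (h : PrimeSpectrum.comap ψ.toRingHom P = PrimeSpectrum.comap (algebraMap R' (R' ⊗[A] B)) z) :
    ∃ w : PrimeSpectrum (R ⊗[A] B), PrimeSpectrum.comap (Algebra.TensorProduct.map ψ (AlgHom.id A B)).toRingHom w = z ∧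
      PrimeSpectrum.comap (algebraMap R (R ⊗[A] B)) w = P := by
  obtain ⟨Ω, _, e₁, e₂, hk₁, hk₂, he⟩ := UnivOpen.exists_common_field (algebraMap R' (R' ⊗[A] B)) ψ.toRingHom z P h
  letI : Algebra A Ω := (e₂.comp (algebraMap A R)).toAlgebra
  let e₂A : R →ₐ[A] Ω := { e₂ with commutes' := fun _ => rfl }
  let e₁A : B →ₐ[A] Ω :=
    { e₁.comp (Algebra.TensorProduct.includeRight : B →ₐ[A] R' ⊗[A] B).toRingHom with
      commutes' := fun a => by
        show e₁ (Algebra.TensorProduct.includeRight (R := A) (A := R') (algebraMap A B a)) = e₂ (algebraMap A R a)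
        rw [AlgHom.commutes, ← ψ.commutes a, ← AlgHom.coe_toRingHom ψ, ← RingHom.comp_apply e₂]
        exact RingHom.congr_fun he (algebraMap A R' a) }
  let L : R ⊗[A] B →ₐ[A] Ω := Algebra.TensorProduct.lift e₂A e₁A fun _ _ => Commute.all _ _
  have hL : L.toRingHom.comp (Algebra.TensorProduct.map ψ (AlgHom.id A B)).toRingHom = e₁ := RingHom.ext fun x => by
    induction x with
    | zero => simp only [map_zero]
    | add x y hx hy => rw [map_add, map_add, hx, hy]
    | tmul r c =>
      show L (ψ r ⊗ₜ c) = e₁ (r ⊗ₜ c)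
      rw [Algebra.TensorProduct.lift_tmul]
      show e₂ (ψ.toRingHom r) * e₁ (1 ⊗ₜ c) = _
      rw [← RingHom.comp_apply e₂, ← he, RingHom.comp_apply, ← map_mul]
      simp
  refine ⟨⟨RingHom.ker L.toRingHom, RingHom.ker_isPrime _⟩, PrimeSpectrum.ext ?_, PrimeSpectrum.ext ?_⟩
  · show Ideal.comap _ (RingHom.ker L.toRingHom) = _
    rw [RingHom.comap_ker, hL, hk₁]
  · rw [← hk₂]
    ext r
    show L (r ⊗ₜ 1) = 0 ↔ e₂ r = 0
    rw [Algebra.TensorProduct.lift_tmul, map_one, mul_one]
    rfl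

theorem isIntegral_mvPolynomial_map {C C' : Type u} [CommRing C] [CommRing C'] [Algebra C C']
    [Algebra.IsIntegral C C'] (σ : Type) [Fintype σ] :
    letI := (MvPolynomial.map (σ := σ) (algebraMap C C')).toAlgebra
    Algebra.IsIntegral (MvPolynomial σ C) (MvPolynomial σ C') := by
  letI := (MvPolynomial.map (σ := σ) (algebraMap C C')).toAlgebra
  exact ⟨fun F => MvPolynomial.isIntegral_iff_isIntegral_coeff.2 fun n => Algebra.IsIntegral.isIntegral _⟩

/-- The independence of the cut is inherited by finite base changes. -/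
theorem comap_aeval_eq_polyIdeal {A B C : Type u} [CommRing A] [CommRing B] [Algebra A B] [CommRing C] [Algebra A C]
    [Algebra.IsIntegral A C] {d : ℕ} (b : Fin d → B) (q : Ideal B) [q.IsPrime]
    (hq : q.comap (aeval b : MvPolynomial (Fin d) A →ₐ[A] B).toRingHom = polyIdeal d (q.comap (algebraMap A B)))
    (q' : Ideal (C ⊗[A] B)) [q'.IsPrime]
    (hq' : q'.comap (Algebra.TensorProduct.includeRight : B →ₐ[A] C ⊗[A] B).toRingHom = q) :
    q'.comap (aeval fun i => (1 : C) ⊗ₜ[A] b i : MvPolynomial (Fin d) C →ₐ[C] C ⊗[A] B).toRingHom =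
      polyIdeal d (q'.comap (algebraMap C (C ⊗[A] B))) := by
  classical
  let g : MvPolynomial (Fin d) C →ₐ[C] C ⊗[A] B := aeval fun i => (1 : C) ⊗ₜ[A] b i
  let J := q'.comap g.toRingHom
  let p' := q'.comap (algebraMap C (C ⊗[A] B))
  haveI : J.IsPrime := Ideal.comap_isPrime _ _
  haveI : p'.IsPrime := Ideal.comap_isPrime _ _
  have hle : polyIdeal d p' ≤ J := fun F hF => by
    rw [← F.support_sum_monomial_coeff]
    refine J.sum_mem fun m _ => ?_
    rw [← mul_one (F.coeff m), ← C_mul_monomial]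
    refine J.mul_mem_right _ ?_
    show g (MvPolynomial.C (F.coeff m)) ∈ q'
    rw [show g (MvPolynomial.C (F.coeff m)) = algebraMap C (C ⊗[A] B) (F.coeff m) from (aeval_C _ _)]
    exact mem_polyIdeal.1 hF m
  letI : Algebra (MvPolynomial (Fin d) A) (MvPolynomial (Fin d) C) := (MvPolynomial.map (algebraMap A C)).toAlgebra
  haveI : Algebra.IsIntegral (MvPolynomial (Fin d) A) (MvPolynomial (Fin d) C) := isIntegral_mvPolynomial_map _
  by_contra hne
  have hlt := Ideal.IsIntegral.comap_lt_comap (R := MvPolynomial (Fin d) A) (lt_of_le_of_ne hle (Ne.symm hne))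
  refine hlt.not_ge fun F hF => ?_
  have hA : q.comap (algebraMap A B) = p'.comap (algebraMap A C) := by
    ext a
    rw [← hq']
    show Algebra.TensorProduct.includeRight (R := A) (A := C) (algebraMap A B a) ∈ q' ↔ _
    rw [AlgHom.commutes, IsScalarTower.algebraMap_apply A C (C ⊗[A] B)]
    rfl
  have h1 : F ∈ q.comap (aeval b : MvPolynomial (Fin d) A →ₐ[A] B).toRingHom := by
    rw [← hq']
    show Algebra.TensorProduct.includeRight (R := A) (A := C) (aeval b F) ∈ q'
    rw [comp_aeval_apply]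
    show aeval (fun i => (1 : C) ⊗ₜ[A] b i) F ∈ q'
    rw [← MvPolynomial.aeval_map_algebraMap C (fun i => (1 : C) ⊗ₜ[A] b i) F]
    exact hF
  rw [hq, hA] at h1
  show MvPolynomial.map (algebraMap A C) F ∈ polyIdeal d p'
  exact mem_polyIdeal.2 fun m => by rw [coeff_map]; exact mem_polyIdeal.1 h1 m

variable {A B : Type u} [CommRing A] [CommRing B] [Algebra A B]

theorem isFractionRing_of_image {A C K : Type u} [CommRing A] [CommRing C] [IsDomain C] [Field K] [Algebra A C]
    [Algebra C K] [Algebra A K] [IsScalarTower A C K] (hinj : Function.Injective (algebraMap C K))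
    (hfrac : ∀ x : K, ∃ a s : A, algebraMap A K s ≠ 0 ∧ x * algebraMap A K s = algebraMap A K a) :
    IsFractionRing C K := by
  refine ⟨fun y => isUnit_iff_ne_zero.2 ((map_ne_zero_iff _ hinj).2 (nonZeroDivisors.ne_zero y.2)), fun x => ?_, ?_⟩
  · obtain ⟨a, s, hs, he⟩ := hfrac x
    refine ⟨(algebraMap A C a, ⟨algebraMap A C s, mem_nonZeroDivisors_of_ne_zero fun h => hs ?_⟩), ?_⟩
    · rw [IsScalarTower.algebraMap_apply A C K, h, map_zero]
    · simpa only [← IsScalarTower.algebraMap_apply] using he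
  · intro x y h
    exact ⟨1, by simp [hinj h]⟩

theorem exists_mul_eq_residueField {A : Type u} [CommRing A] (P : Ideal A) [P.IsPrime] (x : P.ResidueField) :
    ∃ a s : A, algebraMap A P.ResidueField s ≠ 0 ∧ x * algebraMap A P.ResidueField s = algebraMap A P.ResidueField a := by
  obtain ⟨y, rfl⟩ := IsLocalRing.residue_surjective x
  obtain ⟨⟨a, s⟩, hs⟩ := IsLocalization.surj P.primeCompl y
  refine ⟨a, s, fun h => s.2 (Ideal.algebraMap_residueField_eq_zero.1 h), ?_⟩
  rw [IsScalarTower.algebraMap_apply A (Localization.AtPrime P) P.ResidueField,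
    IsScalarTower.algebraMap_apply A (Localization.AtPrime P) P.ResidueField, IsLocalRing.ResidueField.algebraMap_eq,
    ← map_mul, hs]

theorem exists_indep_minimalPrime_finite {C : Type u} [CommRing C] [IsDomain C] [Algebra A C] [Module.Finite A C]
    [IsNoetherianRing A] [Algebra.FiniteType A B] {d : ℕ} (b : Fin d → B) (q : PrimeSpectrum B) (hfin : FinOpen A B q)
    (hq : q.asIdeal.comap (aeval b : MvPolynomial (Fin d) A →ₐ[A] B).toRingHom =
      polyIdeal d (q.asIdeal.comap (algebraMap A B)))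
    (qC : PrimeSpectrum (C ⊗[A] B))
    (hqC : qC.asIdeal.comap (Algebra.TensorProduct.includeRight : B →ₐ[A] C ⊗[A] B).toRingHom = q.asIdeal) :
    ∃ M : Ideal (C ⊗[A] B), M.IsPrime ∧ M ≤ qC.asIdeal ∧
      M.comap (algebraMap C (C ⊗[A] B)) = ⊥ ∧
      ∀ F : MvPolynomial (Fin d) C, aeval (fun i => (1 : C) ⊗ₜ[A] b i) F ∈ M → F = 0 := by
  haveI : IsNoetherianRing C := Algebra.FiniteType.isNoetherianRing A C
  haveI : Algebra.FiniteType C (C ⊗[A] B) := inferInstance
  obtain ⟨M, hMmin, hMq, hMb⟩ := exists_indep_minimalPrime (A := C) (B := C ⊗[A] B) (fun i => (1 : C) ⊗ₜ[A] b i) qC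
    (hfin C qC (PrimeSpectrum.ext hqC)) (comap_aeval_eq_polyIdeal b q.asIdeal hq qC.asIdeal hqC)
  refine ⟨M, hMmin.isPrime, hMq, ?_, fun F hF => MvPolynomial.ext _ _ fun m => ?_⟩
  · rw [← comap_aeval_comap_C (fun i => (1 : C) ⊗ₜ[A] b i), hMb, eq_bot_iff]
    exact fun c hc => C_mem_polyIdeal.1 hc
  · have h : F ∈ polyIdeal d (⊥ : Ideal C) := hMb ▸ hF
    rw [MvPolynomial.coeff_zero]; exact mem_polyIdeal.1 h m

theorem cancelBaseChange_one_tmul {N S : Type u} [CommRing N] [Algebra A N] [CommRing S] [Algebra N S] [Algebra A S]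
    [IsScalarTower A N S] (v : N ⊗[A] B) :
    Algebra.TensorProduct.cancelBaseChange A N S S B ((1 : S) ⊗ₜ[N] v) =
      Algebra.TensorProduct.map (IsScalarTower.toAlgHom A N S) (AlgHom.id A B) v := by
  induction v with
  | zero => rw [TensorProduct.tmul_zero, map_zero, map_zero]
  | add x y hx hy => rw [TensorProduct.tmul_add, map_add, map_add, hx, hy]
  | tmul r c =>
    rw [Algebra.TensorProduct.cancelBaseChange_tmul, Algebra.TensorProduct.map_tmul, Algebra.smul_def, mul_one]
    rfl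

theorem comap_cancelBaseChange {N S : Type u} [CommRing N] [Algebra A N] [CommRing S] [Algebra N S] [Algebra A S]
    [IsScalarTower A N S] (w : Ideal (S ⊗[A] B)) :
    (w.comap (Algebra.TensorProduct.cancelBaseChange A N S S B).toRingEquiv.toRingHom).comap
        (Algebra.TensorProduct.includeRight : (N ⊗[A] B) →ₐ[N] S ⊗[N] (N ⊗[A] B)).toRingHom =
      w.comap (Algebra.TensorProduct.map (IsScalarTower.toAlgHom A N S) (AlgHom.id A B)).toRingHom := by
  ext v
  show Algebra.TensorProduct.cancelBaseChange A N S S B ((1 : S) ⊗ₜ[N] v) ∈ w ↔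
    Algebra.TensorProduct.map (IsScalarTower.toAlgHom A N S) (AlgHom.id A B) v ∈ w
  rw [cancelBaseChange_one_tmul]

theorem exists_le_of_hasIndepCut {N : Type u} [CommRing N] [IsDomain N] [IsIntegrallyClosed N] [Algebra A N]
    [Algebra.FiniteType A B] {n : ℕ} (w : Ideal (MvPolynomial (Fin n) N ⊗[A] B)) [w.IsPrime]
    (qN : Ideal (N ⊗[A] B)) [qN.IsPrime]
    (hqN : w.comap (Algebra.TensorProduct.map (IsScalarTower.toAlgHom A N (MvPolynomial (Fin n) N)) (AlgHom.id A B)).toRingHom = qN)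
    (hcut : Chev28.HasIndepCut N qN) (P : Ideal (MvPolynomial (Fin n) N)) [P.IsPrime]
    (hP : P ≤ w.comap (algebraMap (MvPolynomial (Fin n) N) (MvPolynomial (Fin n) N ⊗[A] B))) :
    ∃ z : Ideal (MvPolynomial (Fin n) N ⊗[A] B), z.IsPrime ∧ z ≤ w ∧
      z.comap (algebraMap (MvPolynomial (Fin n) N) (MvPolynomial (Fin n) N ⊗[A] B)) = P := by
  let S := MvPolynomial (Fin n) N
  let e : S ⊗[N] (N ⊗[A] B) ≃ₐ[S] S ⊗[A] B := Algebra.TensorProduct.cancelBaseChange A N S S B
  let qq : Ideal (S ⊗[N] (N ⊗[A] B)) := w.comap e.toRingEquiv.toRingHom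
  haveI : qq.IsPrime := Ideal.comap_isPrime _ _
  have hqq : qq.comap (Algebra.TensorProduct.includeRight : (N ⊗[A] B) →ₐ[N] S ⊗[N] (N ⊗[A] B)).toRingHom = qN :=
    (comap_cancelBaseChange w).trans hqN
  haveI : IsIntegrallyClosed S := GrothLib.SubtrLim.isIntegrallyClosed_mvPolynomial N n
  have hqqS : qq.comap (algebraMap S (S ⊗[N] (N ⊗[A] B))) = w.comap (algebraMap S (S ⊗[A] B)) := by
    rw [Ideal.comap_comap]
    exact congrArg (fun φ : S →+* S ⊗[A] B => w.comap φ) (RingHom.ext fun s => e.commutes s)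
  obtain ⟨Q, hQ, hQle, hQP⟩ := Chev28.exists_prime_le_of_isUnibranch qq (isUnibranch_localization _)
    (Chev28.hasIndepCut_mvPolynomial n qN hcut qq hqq) P (hqqS.symm ▸ hP)
  refine ⟨Q.comap e.symm.toRingEquiv.toRingHom, Ideal.comap_isPrime _ _, fun v hv => ?_, ?_⟩
  · have h1 : e (e.symm v) ∈ w := hQle (show e.symm v ∈ Q from hv)
    rwa [e.apply_symm_apply] at h1
  · rw [← hQP]
    ext F
    show e.symm (algebraMap S (S ⊗[A] B) F) ∈ Q ↔ algebraMap S (S ⊗[N] (N ⊗[A] B)) F ∈ Q
    rw [e.symm.commutes F]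

theorem map_aeval_one_tmul {C K : Type u} [CommRing C] [Algebra A C] [CommRing K] [Algebra A K] {d : ℕ} (b : Fin d → B)
    (χ : C →ₐ[A] K) (F : MvPolynomial (Fin d) C) :
    Algebra.TensorProduct.map χ (AlgHom.id A B) (aeval (fun i => (1 : C) ⊗ₜ[A] b i) F) =
      aeval (fun i => (1 : K) ⊗ₜ[A] b i) (MvPolynomial.map χ.toRingHom F) := by
  induction F using MvPolynomial.induction_on with
  | C x =>
    rw [map_C, aeval_C, aeval_C]
    show Algebra.TensorProduct.map χ (AlgHom.id A B) (x ⊗ₜ 1) = _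
    rw [Algebra.TensorProduct.map_tmul, map_one]
    rfl
  | add x y hx hy => simp only [map_add, hx, hy]
  | mul_X x i hx =>
    rw [map_mul, map_mul, map_mul, map_mul, hx, map_X, aeval_X, aeval_X, Algebra.TensorProduct.map_tmul, map_one]
    rfl

/-- Openness after finite base changes at `q` gives an independent cut over the normalization. -/
theorem hasIndepCut_normalization [IsNoetherianRing A] [Algebra.FiniteType A B] {d : ℕ} (b : Fin d → B)
    (q : PrimeSpectrum B) (hfin : FinOpen A B q)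
    (hq : q.asIdeal.comap (aeval b : MvPolynomial (Fin d) A →ₐ[A] B).toRingHom =
      polyIdeal d (q.asIdeal.comap (algebraMap A B)))
    (hqf : letI : Algebra (MvPolynomial (Fin d) A) B := (aeval b).toRingHom.toAlgebra
      Algebra.QuasiFiniteAt (MvPolynomial (Fin d) A) q.asIdeal)
    (P : Ideal A) [P.IsPrime] (qN : Ideal (integralClosure A P.ResidueField ⊗[A] B)) [qN.IsPrime]
    (hqN : qN.comap (Algebra.TensorProduct.includeRight : B →ₐ[A] integralClosure A P.ResidueField ⊗[A] B).toRingHom = q.asIdeal) :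
    Chev28.HasIndepCut (integralClosure A P.ResidueField) qN := by
  classical
  let K := P.ResidueField
  let N := integralClosure A K
  haveI : Algebra.FiniteType K (K ⊗[A] B) := inferInstance
  haveI : IsNoetherianRing (K ⊗[A] B) := Algebra.FiniteType.isNoetherianRing K _
  let Z : Set (Ideal (K ⊗[A] B)) := {z | z ∈ minimalPrimes (K ⊗[A] B) ∧
    ∀ F : MvPolynomial (Fin d) K, aeval (fun i => (1 : K) ⊗ₜ[A] b i) F ∈ z → F = 0}
  let θ := Algebra.TensorProduct.map N.val (AlgHom.id A B)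
  suffices hz : ∃ z ∈ Z, z.comap θ.toRingHom ≤ qN by
    obtain ⟨z, ⟨hzmin, hzind⟩, hzle⟩ := hz
    haveI := hzmin.isPrime
    have hzero : ∀ x : N, algebraMap N (N ⊗[A] B) x ∈ z.comap θ.toRingHom → x = 0 := fun x hx => by
      have h2 : aeval (fun i => (1 : K) ⊗ₜ[A] b i) (C (x : K)) ∈ z := by
        rw [aeval_C]
        have h3 : θ (x ⊗ₜ 1) ∈ z := hx
        rwa [Algebra.TensorProduct.map_tmul, map_one] at h3
      have h4 := hzind _ h2
      rw [← map_zero (C : K →+* MvPolynomial (Fin d) K)] at h4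
      exact Subtype.ext (C_injective _ _ h4)
    refine ⟨z.comap θ.toRingHom, Ideal.comap_isPrime _ _, hzle, ⟨⟨Ideal.comap_isPrime _ _, bot_le⟩,
      fun L _ _ x hx => ?_⟩, d, fun i => (1 : N) ⊗ₜ[A] b i, fun F hF m => ?_,
      Chev28.quasiFiniteAt_baseChange N b q.asIdeal qN hqN hqf⟩
    · rw [hzero x hx]
      exact L.zero_mem
    · have h2 : aeval (fun i => (1 : K) ⊗ₜ[A] b i) (MvPolynomial.map N.val.toRingHom F) ∈ z := by
        rw [← map_aeval_one_tmul]
        exact hF
      have h4 := hzind _ h2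
      have h5 : N.val (F.coeff m) = 0 := by
        have := congrArg (coeff m) h4
        rwa [coeff_map, coeff_zero] at this
      rw [show F.coeff m = 0 from Subtype.ext h5]
      exact Ideal.zero_mem _
  by_contra! hcon
  choose! u hu huq using fun z hz => Set.not_subset.1 (hcon z hz)
  have hrange : ∀ v : N ⊗[A] B, ∃ C : Subalgebra A N, C.FG ∧
      v ∈ Set.range (Algebra.TensorProduct.map C.val (AlgHom.id A B)) := fun v => by
    obtain ⟨C, hC, t, ht⟩ := TensorProduct.Algebra.exists_of_fg (S := N) v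
    exact ⟨C, hC, t, ht⟩
  choose Cof hCof hmemC using hrange
  have hZfin : Z.Finite := (minimalPrimes.finite_of_isNoetherianRing _).subset fun z hz => hz.1
  let C₀ : Subalgebra A N := hZfin.toFinset.sup fun z => Cof (u z)
  have hC₀ : C₀.FG := Finset.sup_induction Subalgebra.fg_bot (fun _ h₁ _ h₂ => h₁.sup h₂) fun z _ => hCof (u z)
  haveI : Algebra.IsIntegral A N := inferInstance
  haveI : Algebra.IsIntegral A C₀ := ⟨fun c => (isIntegral_algHom_iff C₀.val Subtype.val_injective).1
    (Algebra.IsIntegral.isIntegral _)⟩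
  haveI : Algebra.FiniteType A C₀ := C₀.fg_iff_finiteType.1 hC₀
  haveI : Module.Finite A C₀ := Algebra.IsIntegral.finite
  haveI : IsNoetherianRing C₀ := Algebra.FiniteType.isNoetherianRing A C₀
  let ι₀ := Algebra.TensorProduct.map C₀.val (AlgHom.id A B)
  let qC : PrimeSpectrum (C₀ ⊗[A] B) := ⟨qN.comap ι₀.toRingHom, Ideal.comap_isPrime _ _⟩
  have hqC : qC.asIdeal.comap (Algebra.TensorProduct.includeRight : B →ₐ[A] C₀ ⊗[A] B).toRingHom = q.asIdeal := by
    rw [← hqN]
    ext c
    show ι₀ (1 ⊗ₜ c) ∈ qN ↔ (1 : N) ⊗ₜ[A] c ∈ qN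
    rw [Algebra.TensorProduct.map_tmul, map_one]
    rfl
  obtain ⟨M, hMprime, hMq, hMC, hMind⟩ := exists_indep_minimalPrime_finite (C := C₀) b q hfin hq qC hqC
  let χ : C₀ →ₐ[A] K := N.val.comp C₀.val
  have hχ : Function.Injective χ := Subtype.val_injective.comp Subtype.val_injective
  letI : Algebra C₀ K := χ.toRingHom.toAlgebra
  haveI : IsScalarTower A C₀ K := IsScalarTower.of_algebraMap_eq fun a => (χ.commutes a).symm
  haveI : IsFractionRing C₀ K := isFractionRing_of_image (A := A) hχ (exists_mul_eq_residueField P)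
  obtain ⟨z, hzM, hzK⟩ := exists_point_over χ ⟨M, inferInstance⟩ ⟨⊥, Ideal.isPrime_bot⟩ (PrimeSpectrum.ext (by
    show Ideal.comap χ.toRingHom ⊥ = M.comap _
    rw [hMC, ← RingHom.ker_eq_comap_bot]
    exact (RingHom.injective_iff_ker_eq_bot χ.toRingHom).1 hχ))
  obtain ⟨z₀, hz₀min, hz₀⟩ := Ideal.exists_minimalPrimes_le (bot_le : (⊥ : Ideal (K ⊗[A] B)) ≤ z.asIdeal)
  haveI := hz₀min.isPrime
  have hzM' : z.asIdeal.comap (Algebra.TensorProduct.map χ (AlgHom.id A B)).toRingHom = M :=
    congrArg PrimeSpectrum.asIdeal hzM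
  have hz₀Z : z₀ ∈ Z := by
    refine ⟨hz₀min, fun F hF => ?_⟩
    obtain ⟨c, hc, F₀, hF₀⟩ := Chev28.exists_C_mul_eq_map (A := C₀) (nonZeroDivisors C₀) K F
    have h1 : aeval (fun i => (1 : C₀) ⊗ₜ[A] b i) F₀ ∈ M := by
      rw [← hzM']
      show Algebra.TensorProduct.map χ (AlgHom.id A B) _ ∈ z.asIdeal
      rw [map_aeval_one_tmul, show MvPolynomial.map χ.toRingHom F₀ = MvPolynomial.map (algebraMap C₀ K) F₀ from rfl, ← hF₀,
        map_mul]
      exact z.asIdeal.mul_mem_left _ (hz₀ hF)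
    have h2 : F₀ = 0 := hMind F₀ h1
    rw [h2, map_zero] at hF₀
    refine (mul_eq_zero.1 hF₀).resolve_left fun h => ?_
    rw [← map_zero (C : K →+* MvPolynomial (Fin d) K)] at h
    exact nonZeroDivisors.ne_zero hc (hχ ((C_injective _ _ h).trans (map_zero χ).symm))
  obtain ⟨t, ht⟩ : u z₀ ∈ Set.range ι₀ :=
    range_map_mono (Finset.le_sup (f := fun z => Cof (u z)) (hZfin.mem_toFinset.2 hz₀Z)) (hmemC (u z₀))
  refine huq z₀ hz₀Z ?_
  rw [← ht]
  refine hMq (hzM'.le ?_)
  have h3 : θ (u z₀) ∈ z₀ := hu z₀ hz₀Z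
  rw [← ht] at h3
  show Algebra.TensorProduct.map χ (AlgHom.id A B) t ∈ z.asIdeal
  refine Set.mem_of_eq_of_mem ?_ (hz₀ h3)
  clear ht h3
  induction t with
  | zero => simp only [map_zero]
  | add x y hx hy => simp only [map_add, hx, hy]
  | tmul r c => rfl

/-- An algebraically independent quasi-finite cut and openness after finite base changes give lifting
of generizations after base change to polynomial algebras. -/
theorem exists_generization_mvPolynomial [IsNoetherianRing A] [Algebra.FiniteType A B] {d : ℕ} (b : Fin d → B)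
    (q : PrimeSpectrum B) (hfin : FinOpen A B q)
    (hq : q.asIdeal.comap (aeval b : MvPolynomial (Fin d) A →ₐ[A] B).toRingHom =
      polyIdeal d (q.asIdeal.comap (algebraMap A B)))
    (hqf : letI : Algebra (MvPolynomial (Fin d) A) B := (aeval b).toRingHom.toAlgebra
      Algebra.QuasiFiniteAt (MvPolynomial (Fin d) A) q.asIdeal)
    {n : ℕ} (w : PrimeSpectrum (MvPolynomial (Fin n) A ⊗[A] B))
    (hw : PrimeSpectrum.comap (Algebra.TensorProduct.includeRight : B →ₐ[A] MvPolynomial (Fin n) A ⊗[A] B).toRingHom w = q)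
    (P : PrimeSpectrum (MvPolynomial (Fin n) A))
    (hP : P ⤳ PrimeSpectrum.comap (algebraMap (MvPolynomial (Fin n) A) (MvPolynomial (Fin n) A ⊗[A] B)) w) :
    ∃ z, z ⤳ w ∧ PrimeSpectrum.comap (algebraMap (MvPolynomial (Fin n) A) (MvPolynomial (Fin n) A ⊗[A] B)) z = P := by
  classical
  let P₀ := P.asIdeal.comap (C : A →+* MvPolynomial (Fin n) A)
  let K := P₀.ResidueField
  let N := integralClosure A K
  haveI : IsFractionRing N K := isFractionRing_of_image (A := A) Subtype.val_injective (exists_mul_eq_residueField P₀)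
  haveI : IsIntegrallyClosed N :=
    (isIntegrallyClosed_iff K).mpr fun {x} hx => ⟨⟨x, isIntegral_trans x hx⟩, rfl⟩
  haveI : Algebra.IsIntegral A N := inferInstance
  let ψ : MvPolynomial (Fin n) A →ₐ[A] MvPolynomial (Fin n) N := MvPolynomial.mapAlgHom (Algebra.ofId A N)
  letI : Algebra (MvPolynomial (Fin n) A) (MvPolynomial (Fin n) N) := (MvPolynomial.map (algebraMap A N)).toAlgebra
  haveI : Algebra.IsIntegral (MvPolynomial (Fin n) A) (MvPolynomial (Fin n) N) := isIntegral_mvPolynomial_map _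
  have hker : (⊥ : Ideal (MvPolynomial (Fin n) N)).comap (algebraMap (MvPolynomial (Fin n) A) (MvPolynomial (Fin n) N)) ≤
      P.asIdeal := fun F hF => by
    rw [← F.support_sum_monomial_coeff]
    refine P.asIdeal.sum_mem fun m _ => ?_
    rw [← mul_one (F.coeff m), ← C_mul_monomial]
    refine P.asIdeal.mul_mem_right _ ?_
    have h1 : MvPolynomial.map (algebraMap A N) F = 0 := hF
    have h2 : algebraMap A N (F.coeff m) = 0 := by rw [← coeff_map, h1, coeff_zero]
    show F.coeff m ∈ P₀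
    exact Ideal.algebraMap_residueField_eq_zero.1 (by
      rw [IsScalarTower.algebraMap_apply A N K, h2, map_zero] : algebraMap A K (F.coeff m) = 0)
  obtain ⟨PN, -, hPN, hPNP⟩ := Ideal.exists_ideal_over_prime_of_isIntegral P.asIdeal (⊥ : Ideal (MvPolynomial (Fin n) N)) hker
  haveI := hPN
  obtain ⟨mN, hmle, hmN, hmw⟩ := Ideal.exists_ideal_over_prime_of_isIntegral
    (w.asIdeal.comap (algebraMap (MvPolynomial (Fin n) A) (MvPolynomial (Fin n) A ⊗[A] B))) PN
    (hPNP.le.trans ((PrimeSpectrum.le_iff_specializes _ _).2 hP))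
  obtain ⟨wN, hwN, hwNm⟩ := exists_point_over (B := B) ψ w ⟨mN, hmN⟩ (PrimeSpectrum.ext hmw)
  let j : N ⊗[A] B →ₐ[A] MvPolynomial (Fin n) N ⊗[A] B :=
    Algebra.TensorProduct.map (IsScalarTower.toAlgHom A N (MvPolynomial (Fin n) N)) (AlgHom.id A B)
  let qN := wN.asIdeal.comap j.toRingHom
  haveI : qN.IsPrime := Ideal.comap_isPrime _ _
  have hqN : qN.comap (Algebra.TensorProduct.includeRight : B →ₐ[A] N ⊗[A] B).toRingHom = q.asIdeal := by
    rw [← hw, ← hwN]
    ext c
    show j (1 ⊗ₜ c) ∈ wN.asIdeal ↔ Algebra.TensorProduct.map ψ (AlgHom.id A B) (1 ⊗ₜ c) ∈ wN.asIdeal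
    rw [Algebra.TensorProduct.map_tmul, Algebra.TensorProduct.map_tmul, map_one, map_one]
  have hcut := hasIndepCut_normalization b q hfin hq hqf P₀ qN hqN
  obtain ⟨zN, hzN, hzle, hzP⟩ := exists_le_of_hasIndepCut (A := A) (B := B) (N := N) wN.asIdeal qN rfl hcut PN
    ((congrArg PrimeSpectrum.asIdeal hwNm).ge.trans' hmle)
  let Φ := Algebra.TensorProduct.map ψ (AlgHom.id A B)
  refine ⟨PrimeSpectrum.comap Φ.toRingHom ⟨zN, hzN⟩, ?_, ?_⟩
  · rw [← hwN]
    exact ((PrimeSpectrum.le_iff_specializes ⟨zN, hzN⟩ wN).1 hzle).map (PrimeSpectrum.continuous_comap _)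
  · refine PrimeSpectrum.ext (SetLike.ext fun F => ?_)
    refine Iff.trans ?_ (SetLike.ext_iff.1 hPNP F)
    show Φ (F ⊗ₜ 1) ∈ zN ↔ MvPolynomial.map (algebraMap A N) F ∈ PN
    rw [← hzP, Algebra.TensorProduct.map_tmul, map_one]
    rfl

/-- An algebraically independent quasi-finite cut and openness after finite base changes give lifting
of generizations after base change to algebras of finite type. -/
theorem genLift_of_finOpen [IsNoetherianRing A] [Algebra.FiniteType A B] {d : ℕ} (b : Fin d → B)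
    (q : PrimeSpectrum B) (hfin : FinOpen A B q)
    (hq : q.asIdeal.comap (aeval b : MvPolynomial (Fin d) A →ₐ[A] B).toRingHom =
      polyIdeal d (q.asIdeal.comap (algebraMap A B)))
    (hqf : letI : Algebra (MvPolynomial (Fin d) A) B := (aeval b).toRingHom.toAlgebra
      Algebra.QuasiFiniteAt (MvPolynomial (Fin d) A) q.asIdeal) : GenLift A B q := by
  intro R _ _ _ w hw P hP
  obtain ⟨n, ψ, hψ⟩ := Algebra.FiniteType.iff_quotient_mvPolynomial''.1 ‹Algebra.FiniteType A R›
  let Φ := Algebra.TensorProduct.map ψ (AlgHom.id A B)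
  have hsurj : Function.Surjective Φ := fun x => by
    induction x with
    | zero => exact ⟨0, map_zero _⟩
    | tmul r c =>
      obtain ⟨r, rfl⟩ := hψ r
      exact ⟨r ⊗ₜ c, rfl⟩
    | add x y hx hy =>
      obtain ⟨x, rfl⟩ := hx; obtain ⟨y, rfl⟩ := hy
      exact ⟨x + y, map_add _ _ _⟩
  let w' := PrimeSpectrum.comap Φ.toRingHom w
  have hcomap : ∀ v : PrimeSpectrum (R ⊗[A] B),
      PrimeSpectrum.comap (algebraMap (MvPolynomial (Fin n) A) (MvPolynomial (Fin n) A ⊗[A] B))
        (PrimeSpectrum.comap Φ.toRingHom v) =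
        PrimeSpectrum.comap ψ.toRingHom (PrimeSpectrum.comap (algebraMap R (R ⊗[A] B)) v) := fun v => by
    refine PrimeSpectrum.ext ?_
    ext F
    show Φ (F ⊗ₜ 1) ∈ v.asIdeal ↔ (ψ F) ⊗ₜ[A] (1 : B) ∈ v.asIdeal
    rw [Algebra.TensorProduct.map_tmul, map_one]
  obtain ⟨z', hz', hzP⟩ := exists_generization_mvPolynomial b q hfin hq hqf w'
    (PrimeSpectrum.ext (by
      rw [← hw]
      ext c
      show Φ (1 ⊗ₜ c) ∈ w.asIdeal ↔ (1 : R) ⊗ₜ[A] c ∈ w.asIdeal
      rw [Algebra.TensorProduct.map_tmul, map_one]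
      rfl))
    (PrimeSpectrum.comap ψ.toRingHom P) (by
      rw [hcomap]
      exact hP.map (PrimeSpectrum.continuous_comap _))
  obtain ⟨z, hzz, hzR⟩ := exists_point_over ψ z' P hzP.symm
  refine ⟨z, ?_, hzR⟩
  rw [← (PrimeSpectrum.isClosedEmbedding_comap_of_surjective _ _ hsurj).isInducing.specializes_iff, hzz]
  exact hz'

end GrothLib.UnivOpenAt6

end
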