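import Groth.Agent.Lib.UnivOpenAt6.Basic
import Groth.Agent.Lib.UnivOpenAt6.Components
import Groth.Agent.Lib.UnivOpenAt6.Cut.Indep
import Groth.Agent.Lib.UnivOpenAt6.Cut.Normal
import Groth.Agent.S0385
import Mathlib.AlgebraicGeometry.Morphisms.UniversallyOpen

/-!
# Universal openness at maximal points of fibres and finite base changes
-/

set_option autoImplicit false
set_option linter.style.haveILetI false

universe u

open CategoryTheory CategoryTheory.Limits AlgebraicGeometry Topology TensorProduct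

namespace GrothLib.UnivOpenAt6

variable {X Y : Scheme.{u}}

theorem isOpenAt_baseChange_openImmersion (f : X ⟶ Y) {U T : Scheme.{u}} (j : U ⟶ T) [IsOpenImmersion j] (π : T ⟶ Y)
    (z : ↥(pullback f (j ≫ π)))
    (h : ∀ t : ↥(pullback f π), pullback.fst f π t = pullback.fst f (j ≫ π) z → EGA43.IsOpenAt (pullback.snd f π).base t) :
    EGA43.IsOpenAt (pullback.snd f (j ≫ π)).base z := by
  let k : pullback f (j ≫ π) ⟶ pullback f π :=
    pullback.lift (pullback.fst _ _) (pullback.snd _ _ ≫ j) (by rw [pullback.condition, Category.assoc])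
  have sq : IsPullback k (pullback.snd f (j ≫ π)) (pullback.snd f π) j := by
    refine IsPullback.of_right ?_ (pullback.lift_snd _ _ _) (IsPullback.of_hasPullback f π)
    rw [pullback.lift_fst]
    exact IsPullback.of_hasPullback f (j ≫ π)
  haveI : IsOpenImmersion k := MorphismProperty.of_isPullback sq.flip ‹_›
  have hk : ∀ a, pullback.snd f π (k a) = j (pullback.snd f (j ≫ π) a) := fun a => by
    rw [← Scheme.Hom.comp_apply, pullback.lift_snd, Scheme.Hom.comp_apply]
  intro W hW
  have h1 := h (k z) (by rw [← Scheme.Hom.comp_apply, pullback.lift_fst]) _ (k.isOpenEmbedding.isOpenMap.image_mem_nhds hW)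
  rw [show (pullback.snd f π).base (k z) = _ from hk z] at h1
  refine Filter.mem_of_superset (j.continuous.continuousAt.preimage_mem_nhds h1) ?_
  rintro s ⟨_, ⟨a, ha, rfl⟩, hs⟩
  exact ⟨a, ha, j.isOpenEmbedding.injective ((hk a).symm.trans hs)⟩

theorem finOpen_of_baseChange_finite [IsNoetherian Y] (f : X ⟶ Y) {A B : Type u} [CommRing A] [CommRing B] [Algebra A B]
    (jX : Spec (CommRingCat.of B) ⟶ X) [IsOpenImmersion jX] (jY : Spec (CommRingCat.of A) ⟶ Y) [IsOpenImmersion jY]
    (hX : jX ≫ f = Spec.map (CommRingCat.ofHom (algebraMap A B)) ≫ jY) (q : PrimeSpectrum B)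
    (h : ∀ (Y' : Scheme.{u}) (g : Y' ⟶ Y) [IsFinite g], ∀ x' : ↥(pullback f g), pullback.fst f g x' = jX q →
        EGA43.IsOpenAt (pullback.snd f g).base x') :
    FinOpen A B q := by
  intro C _ _ _ _ w hw
  let φ := Spec.map (CommRingCat.ofHom (algebraMap A C))
  haveI : IsFinite φ := (IsFinite.SpecMap_iff (f := CommRingCat.ofHom (algebraMap A C))).mpr (RingHom.finite_algebraMap.mpr ‹_›)
  haveI : LocallyQuasiFinite (φ ≫ jY) := inferInstance
  haveI : QuasiCompact (φ ≫ jY) := inferInstance
  haveI : IsSeparated (φ ≫ jY) := inferInstance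
  obtain ⟨T, j, π, hj, -, hπ, hjπ⟩ := Groth.Agent.S0385.result (φ ≫ jY)
  haveI := hj
  haveI := hπ
  obtain ⟨Φ, _, h₁, h₂, -⟩ := exists_chart (R := C) f (j ≫ π) jX jY (𝟙 _) hX ((Category.id_comp _).trans hjπ)
  have hfst : pullback.fst f (j ≫ π) (Φ w) = jX q := by
    rw [← Scheme.Hom.comp_apply, h₁, Scheme.Hom.comp_apply]
    exact congrArg jX hw
  have ho := isOpenAt_baseChange_openImmersion f j π (Φ w) fun t ht => h T π t (ht.trans hfst)
  have hsnd : ∀ v, pullback.snd f (j ≫ π) (Φ v) = PrimeSpectrum.comap (algebraMap C (C ⊗[A] B)) v := fun v => by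
    rw [← Scheme.Hom.comp_apply, h₂, Category.comp_id]
    rfl
  intro U hU
  have h3 := ho _ (Φ.isOpenEmbedding.isOpenMap.image_mem_nhds hU)
  rw [show (pullback.snd f (j ≫ π)).base (Φ w) = _ from hsnd w] at h3
  refine Filter.mem_of_superset h3 ?_
  rintro _ ⟨_, ⟨v, hv, rfl⟩, rfl⟩
  exact ⟨v, hv, (hsnd v).symm⟩

/-- At a maximal point of a fibre, openness after finite base changes gives universal openness. -/
theorem isUnivOpenAt_of_finite_baseChange [IsNoetherian Y] (f : X ⟶ Y) [LocallyOfFiniteType f] (x : X)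
    (hmax : ∀ x' : X, f x' = f x → x' ⤳ x → x' = x)
    (h : ∀ (Y' : Scheme.{u}) (g : Y' ⟶ Y) [IsFinite g], ∀ x' : ↥(pullback f g), pullback.fst f g x' = x →
        EGA43.IsOpenAt (pullback.snd f g).base x') :
    EGA43.IsUnivOpenAt f x := by
  obtain ⟨_, ⟨(V : Y.Opens), hV, rfl⟩, hyV, -⟩ := Y.isBasis_affineOpens.exists_subset_of_mem_open
    (Set.mem_univ (f x)) isOpen_univ
  obtain ⟨_, ⟨(W : X.Opens), hW, rfl⟩, hxW, hWV⟩ := X.isBasis_affineOpens.exists_subset_of_mem_open
    (show x ∈ f ⁻¹ᵁ V from hyV) (f ⁻¹ᵁ V).2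
  haveI : IsNoetherianRing Γ(Y, V) := IsLocallyNoetherian.component_noetherian ⟨V, hV⟩
  letI : Algebra Γ(Y, V) Γ(X, W) := (f.appLE V W hWV).hom.toAlgebra
  haveI : Algebra.FiniteType Γ(Y, V) Γ(X, W) := f.finiteType_appLE hV hW hWV
  haveI : Algebra.FinitePresentation Γ(Y, V) Γ(X, W) := Algebra.FinitePresentation.of_finiteType.1 ‹_›
  obtain ⟨q, rfl⟩ := hW.range_fromSpec.ge hxW
  have hX : hW.fromSpec ≫ f = Spec.map (CommRingCat.ofHom (algebraMap Γ(Y, V) Γ(X, W))) ≫ hV.fromSpec :=
    (IsAffineOpen.SpecMap_appLE_fromSpec f hV hW hWV).symm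
  have hsq : ∀ z, f (hW.fromSpec z) = hV.fromSpec (PrimeSpectrum.comap (algebraMap Γ(Y, V) Γ(X, W)) z) := fun z => by
    rw [← Scheme.Hom.comp_apply, hX]
    rfl
  obtain ⟨d, b, hq, hqf⟩ := exists_cut_of_maximal (A := Γ(Y, V)) (q : PrimeSpectrum Γ(X, W)) fun z hz he =>
    hW.fromSpec.isOpenEmbedding.injective (hmax _ (by rw [hsq, hsq]; exact congrArg hV.fromSpec (PrimeSpectrum.ext he))
      (((PrimeSpectrum.le_iff_specializes _ _).1 hz).map hW.fromSpec.continuous))
  exact univOpenAt_of_genLift f hV hW hWV rfl q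
    (genLift_of_finOpen b q (finOpen_of_baseChange_finite f hW.fromSpec hV.fromSpec hX q h) hq hqf)

/-- Universal openness at the maximal points of all fibres gives universal openness. -/
theorem universallyOpen_of_maximal (f : X ⟶ Y)
    (h : ∀ x : X, (∀ x' : X, f x' = f x → x' ⤳ x → x' = x) → EGA43.IsUnivOpenAt f x) : UniversallyOpen f := by
  refine (universallyOpen_iff_forall_univOpenAt f).2 fun x Y' g x' _ => ?_
  let y' := pullback.snd f g x'
  let r := Spec.map (g.residueFieldMap y')
  let Q := pullback (f.fiberToSpecResidueField (g y')) r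
  let b : Q ⟶ pullback f g := pullback.lift (pullback.fst _ r ≫ f.fiberι _) (pullback.snd _ r ≫ Y'.fromSpecResidueField y')
    (by
      rw [Category.assoc, Scheme.Hom.fiber_fac, pullback.condition_assoc, Category.assoc,
        Scheme.Hom.SpecMap_residueFieldMap_fromSpecResidueField])
  have sq : IsPullback b (pullback.snd _ r) (pullback.snd f g) (Y'.fromSpecResidueField y') := by
    refine IsPullback.of_right ?_ (pullback.lift_snd _ _ _) (IsPullback.of_hasPullback f g)
    rw [pullback.lift_fst, ← Scheme.Hom.SpecMap_residueFieldMap_fromSpecResidueField]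
    exact (IsPullback.of_hasPullback (f.fiberToSpecResidueField (g y')) r).paste_horiz
      (IsPullback.of_hasPullback f (Y.fromSpecResidueField (g y')))
  obtain ⟨p, hp, -⟩ := Scheme.exists_preimage_of_isPullback sq x' (IsLocalRing.closedPoint _)
    (Scheme.fromSpecResidueField_apply y' _).symm
  obtain ⟨ξ, hξ⟩ := QuasiSober.sober (isIrreducible_irreducibleComponent (x := pullback.fst _ r p))
    (isClosed_of_mem_irreducibleComponents _ (irreducibleComponent_mem_irreducibleComponents _))
  haveI : Flat r := inferInstance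
  haveI : Flat (pullback.fst (f.fiberToSpecResidueField (g y')) r) := inferInstance
  obtain ⟨p', hp', hpξ⟩ := Flat.generalizingMap (pullback.fst (f.fiberToSpecResidueField (g y')) r)
    (hξ.specializes mem_irreducibleComponent)
  have hmax : ∀ x'' : X, f x'' = f (f.fiberι _ ξ) → x'' ⤳ f.fiberι _ ξ → x'' = f.fiberι _ ξ := by
    intro x'' hf hs
    rw [← Scheme.Hom.comp_apply, Scheme.Hom.fiber_fac, Scheme.Hom.comp_apply, Scheme.fromSpecResidueField_apply] at hf
    obtain ⟨c, rfl⟩ := (f.range_fiberι (g y')).ge hf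
    have hc := (f.fiberι _).isEmbedding.isInducing.specializes_iff.1 hs
    have hirr := (irreducibleComponent_mem_irreducibleComponents (pullback.fst _ r p)).2
      (y := closure {c}) isIrreducible_singleton.closure
      (fun t ht => specializes_iff_mem_closure.1 (hc.trans (hξ.specializes ht)))
    exact congrArg _ ((hc.antisymm (hξ.specializes (hirr (subset_closure rfl)))).eq)
  have hfst : pullback.fst f g (b p') = f.fiberι _ ξ := by
    rw [← Scheme.Hom.comp_apply, pullback.lift_fst, Scheme.Hom.comp_apply, hpξ]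
  have hopen := h _ hmax Y' g (b p') hfst
  have hspec : b p' ⤳ x' := hp ▸ hp'.map b.continuous
  have hsnd : pullback.snd f g (b p') = y' := by
    rw [← Scheme.Hom.comp_apply, pullback.lift_snd, Scheme.Hom.comp_apply, Scheme.fromSpecResidueField_apply]
  intro U hU
  have h1 := hopen U (hspec hU)
  rwa [show (pullback.snd f g).base (b p') = _ from hsnd] at h1

end GrothLib.UnivOpenAt6
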